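import Cfsg.Agent.H66.Cod.Base
import Cfsg.Agent.H504.Zeros
import Cfsg.Agent.Characters.CentralCharacter
import Cfsg.Agent.CharactersDeep.SumRootsUnity
import Cfsg.Agent.S0189

/-!
# Codegrees of simple groups: the multiplicity of a degree (helper101)

* `mult G d` : the number of irreducible characters of degree `d`
* `Cov.exists_mult` : if `Cov K L k` then some degree `d` of `K` has `k d² < |K|` and `k ≤ mult K d`
* `card_mul_sq_le` : `|N| c² ≤ |C(x)|` for a set `N` of characters with `χ(x) / c` a nonzero algebraic integer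
* `mult_le` : `mult G d ≤ |C(x)|`, `x` a `p`-element, `p ∤ d`
* `nvd x d` : the number of characters of degree `d` not vanishing at `x`; `nvd_mul_sq_le` : `nvd x d * c² ≤ |C(x)|` if
  `gcd(d, |x^G|) c ∣ d`; `mult_le_sum`
* `NC S m` : there is no `Cov S L k` with `k ≥ m`
* `NC.of_deg`, `NC.trivial`, `NC.of_primes` : criteria
-/

set_option autoImplicit false
set_option linter.unusedSectionVars false

universe u v

namespace Cfsg.Agent.H101.Cod

open Cfsg Cfsg.Agent.Characters.Core Cfsg.Agent.H686.CharKit Cfsg.Agent.H66.Cod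
open Cfsg.Agent.Characters.GaloisBasic Cfsg.Agent.H504.Zeros
open Cfsg.Agent.H495.Cod (charDegree_one sq_lt perfect_of_simple)

/-- the number of irreducible characters of degree `d` -/
noncomputable def mult (G : Type*) [Group G] (d : ℕ) : ℕ :=
  Nat.card {χ : IrrCharacter G // charDegree (χ : G → ℂ) = d}

theorem mult_eq {G : Type u} [Group G] [Fintype (IrrCharacter G)] [DecidableEq ℕ] (d : ℕ) :
    mult G d = (Finset.univ.filter fun χ : IrrCharacter G => charDegree (χ : G → ℂ) = d).card := by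
  classical
  rw [mult, Nat.card_eq_fintype_card, Fintype.card_subtype]

/-- **Some degree has multiplicity at least `k`.** -/
theorem exists_mult {K : Type u} {L : Type v} [Group K] [Group L] [Finite K] [Finite L] [IsSimpleGroup K] {k : ℕ}
    (h : Cov K L k) (hK : ¬ ∀ a b : K, a * b = b * a) :
    ∃ d, NDeg K d ∧ 1 < d ∧ d ∣ Nat.card K ∧ k * d ^ 2 < Nat.card K ∧ k ≤ mult K d := by
  classical
  have := finite_irr (G := K)
  have := Fintype.ofFinite (IrrCharacter K)
  have := finite_irr (G := L)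
  have := Fintype.ofFinite (IrrCharacter L)
  have hk := h.pos
  let o : IrrCharacter K := ⟨1, isIrr_one⟩
  let o' : IrrCharacter L := ⟨1, isIrr_one⟩
  have ho : charDegree (o : K → ℂ) = 1 := charDegree_one
  have ho' : charDegree (o' : L → ℂ) = 1 := charDegree_one
  let D : Finset ℕ := (Finset.univ.erase o).image fun χ : IrrCharacter K => charDegree (χ : K → ℂ)
  have hD : ∀ d ∈ D, NDeg K d := by
    intro d hd
    obtain ⟨χ, hχ, rfl⟩ := Finset.mem_image.1 hd
    exact ⟨χ, fun h1 => (Finset.mem_erase.1 hχ).1 (Subtype.ext h1), rfl⟩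
  have h1 : ∀ d : D, ∃ ψ : IrrCharacter L, (ψ : L → ℂ) ≠ 1 ∧ charDegree (ψ : L → ℂ) = k * (d : ℕ) := fun d =>
    h.deg d (hD d d.2)
  choose f hf1 hf2 using h1
  have hinj : Function.Injective f := by
    intro a b hab
    have h2 : k * (a : ℕ) = k * (b : ℕ) := by rw [← hf2, ← hf2, hab]
    exact Subtype.ext (Nat.eq_of_mul_eq_mul_left hk h2)
  -- the sum over the distinct degrees
  have h2 : ∑ d ∈ D, (k * d) ^ 2 + 1 ≤ k * Nat.card K := by
    rw [← h.card, ← sum_deg_sq (G := L), ← Finset.sum_attach, ← Finset.add_sum_erase Finset.univ _ (Finset.mem_univ o'), ho',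
      one_pow, add_comm]
    refine Nat.add_le_add_left ?_ _
    have h3 : ∑ d ∈ D.attach, (k * (d : ℕ)) ^ 2 =
        ∑ ψ ∈ D.attach.image f, charDegree (ψ : L → ℂ) ^ 2 := by
      rw [Finset.sum_image fun a _ b _ hab => hinj hab]
      exact Finset.sum_congr rfl fun d _ => by rw [hf2]
    rw [h3]
    refine Finset.sum_le_sum_of_subset ?_
    intro ψ hψ
    obtain ⟨d, -, rfl⟩ := Finset.mem_image.1 hψ
    exact Finset.mem_erase.2 ⟨fun h4 => hf1 d (congrArg Subtype.val h4), Finset.mem_univ _⟩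
  have h3 : k * ∑ d ∈ D, k * d ^ 2 < k * Nat.card K := by
    refine lt_of_lt_of_le (Nat.lt_succ_of_le (le_of_eq ?_)) h2
    rw [Finset.mul_sum]
    exact Finset.sum_congr rfl fun d _ => by ring
  have h4 : ∑ d ∈ D, k * d ^ 2 < Nat.card K := Nat.lt_of_mul_lt_mul_left h3
  -- the sum over all characters
  have h5 : 1 + ∑ d ∈ D, mult K d * d ^ 2 ≥ Nat.card K := by
    have h6 := Finset.add_sum_erase Finset.univ (fun χ : IrrCharacter K => charDegree (χ : K → ℂ) ^ 2) (Finset.mem_univ o)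
    rw [sum_deg_sq, ho, one_pow] at h6
    rw [← h6]
    refine Nat.add_le_add_left ?_ _
    rw [← Finset.sum_fiberwise_of_maps_to (s := Finset.univ.erase o) (t := D)
      (g := fun χ : IrrCharacter K => charDegree (χ : K → ℂ)) fun χ hχ => Finset.mem_image_of_mem _ hχ]
    refine Finset.sum_le_sum fun d _ => ?_
    rw [Finset.sum_congr rfl (g := fun _ => d ^ 2) fun χ hχ => by rw [(Finset.mem_filter.1 hχ).2], Finset.sum_const,
      smul_eq_mul, mult_eq]
    refine Nat.mul_le_mul_right _ (Finset.card_le_card ?_)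
    intro χ hχ
    exact Finset.mem_filter.2 ⟨Finset.mem_univ _, (Finset.mem_filter.1 hχ).2⟩
  have hKc := Finite.one_lt_card (α := K)
  by_contra hne
  have h6 : ∀ d ∈ D, mult K d ≤ k - 1 := by
    intro d hd
    by_contra h7
    have h8 := NDeg.facts hK (hD d hd)
    refine hne ⟨d, hD d hd, h8.1, h8.2.2, ?_, by omega⟩
    exact lt_of_le_of_lt (Finset.single_le_sum (f := fun d => k * d ^ 2) (fun _ _ => Nat.zero_le _) hd) h4
  have h7 : ∑ d ∈ D, mult K d * d ^ 2 ≤ (k - 1) * ∑ d ∈ D, d ^ 2 := by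
    rw [Finset.mul_sum]
    exact Finset.sum_le_sum fun d hd => Nat.mul_le_mul_right _ (h6 d hd)
  rw [← Finset.mul_sum] at h4
  set X := ∑ d ∈ D, d ^ 2 with hX
  obtain ⟨j, rfl⟩ : ∃ j, k = j + 1 := ⟨k - 1, by omega⟩
  rw [Nat.add_sub_cancel] at h7
  rw [Nat.succ_mul] at h4
  have h8 : X = 0 := by omega
  rw [h8, Nat.mul_zero] at h7
  omega

/-- the Galois average of algebraic integers: `|N| c² ≤ |C(x)|` if `χ(x) / c` is a nonzero algebraic integer for `χ ∈ N` -/
theorem card_mul_sq_le {G : Type u} [Group G] [Finite G] (x : G) {c : ℕ} (hc : 0 < c) (N : Finset (IrrCharacter G))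
    (hN : ∀ χ ∈ N, (χ : G → ℂ) x ≠ 0 ∧ IsIntegral ℤ ((χ : G → ℂ) x / c)) :
    N.card * c ^ 2 ≤ Nat.card (Subgroup.centralizer ({x} : Set G)) := by
  classical
  have := finite_irr (G := G)
  have := Fintype.ofFinite (IrrCharacter G)
  set n := Nat.card G with hn
  have hn0 : n ≠ 0 := Nat.card_pos.ne'
  have : NeZero n := ⟨hn0⟩
  have hc0 : (c : ℂ) ≠ 0 := by exact_mod_cast hc.ne'
  let ex : (ZMod n)ˣ → ℕ := fun j => (j : ZMod n).val
  have hex : ∀ j, (ex j).Coprime n := fun j => ZMod.val_coe_unit_coprime j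
  set P : ℂ := ∏ j : (ZMod n)ˣ, ∏ χ ∈ N, ((χ : G → ℂ) (x ^ ex j) / c) with hP
  have hne : ∀ j, ∀ χ ∈ N, (χ : G → ℂ) (x ^ ex j) / c ≠ 0 := by
    intro j χ hχ
    obtain ⟨σ, hσ⟩ := exists_ringEquiv_of_coprime (G := G) (hex j)
    rw [← hσ χ (isIrr_isCharacter χ.2) x]
    exact div_ne_zero (fun h => (hN χ hχ).1 ((map_eq_zero σ).1 h)) hc0
  have hint : ∀ j, ∀ χ ∈ N, IsIntegral ℤ ((χ : G → ℂ) (x ^ ex j) / c) := by
    intro j χ hχ
    obtain ⟨σ, hσ⟩ := exists_ringEquiv_of_coprime (G := G) (hex j)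
    rw [← hσ χ (isIrr_isCharacter χ.2) x]
    have h1 : σ ((χ : G → ℂ) x / c) = σ ((χ : G → ℂ) x) / c := by rw [map_div₀, map_natCast]
    rw [← h1]
    exact (hN χ hχ).2.map σ.toIntAlgEquiv
  have hP0 : P ≠ 0 :=
    Finset.prod_ne_zero_iff.2 fun j _ => Finset.prod_ne_zero_iff.2 fun χ hχ => hne j χ hχ
  have hPint : IsIntegral ℤ P := IsIntegral.prod _ fun j _ => IsIntegral.prod _ fun χ hχ => hint j χ hχ
  have hfix : ∀ σ : ℂ ≃+* ℂ, σ P = P := by
    intro σ
    obtain ⟨m, hm, hσ⟩ := exists_pow_of_ringEquiv (G := G) σ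
    let u : (ZMod n)ˣ := ZMod.unitOfCoprime m hm
    rw [hP, map_prod]
    refine Fintype.prod_equiv (Equiv.mulRight u) _ _ fun j => ?_
    rw [map_prod]
    refine Finset.prod_congr rfl fun χ _ => ?_
    rw [map_div₀, map_natCast, hσ χ (isIrr_isCharacter χ.2), ← pow_mul]
    refine congrArg (fun z => (χ : G → ℂ) z / c) (pow_congr_zmod x ?_)
    show ((ex j * m : ℕ) : ZMod n) = ((ex (j * u) : ℕ) : ZMod n)
    simp only [ex, u, Nat.cast_mul, ZMod.natCast_val, ZMod.cast_id', id_eq, Units.val_mul,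
      ZMod.coe_unitOfCoprime]
  obtain ⟨k, hk⟩ := Cfsg.Agent.Characters.Galois.exists_int_of_forall_ringEquiv hPint hfix
  have hk0 : k ≠ 0 := by
    rintro rfl
    exact hP0 (by rw [hk]; simp)
  have hPnorm : 1 ≤ ‖P‖ := by
    rw [hk, Complex.norm_intCast]
    exact_mod_cast Int.one_le_abs hk0
  have hpos : ∀ j, ∀ χ ∈ N, 0 < ‖(χ : G → ℂ) (x ^ ex j) / c‖ ^ 2 := fun j χ hχ => by
    have := norm_pos_iff.mpr (hne j χ hχ)
    positivity
  have hAG : ((Fintype.card (ZMod n)ˣ : ℝ) * N.card) ≤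
      ∑ j : (ZMod n)ˣ, ∑ χ ∈ N, ‖(χ : G → ℂ) (x ^ ex j) / c‖ ^ 2 := by
    have h1 : ∑ j : (ZMod n)ˣ, ∑ χ ∈ N, (Real.log (‖(χ : G → ℂ) (x ^ ex j) / c‖ ^ 2) + 1) ≤
        ∑ j : (ZMod n)ˣ, ∑ χ ∈ N, ‖(χ : G → ℂ) (x ^ ex j) / c‖ ^ 2 := by
      refine Finset.sum_le_sum fun j _ => Finset.sum_le_sum fun χ hχ => ?_
      have := Real.log_le_sub_one_of_pos (hpos j χ hχ)
      linarith
    have h2 : 0 ≤ ∑ j : (ZMod n)ˣ, ∑ χ ∈ N, Real.log (‖(χ : G → ℂ) (x ^ ex j) / c‖ ^ 2) := by
      have h3 : ∀ j : (ZMod n)ˣ, ∑ χ ∈ N, Real.log (‖(χ : G → ℂ) (x ^ ex j) / c‖ ^ 2) =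
          2 * Real.log ‖∏ χ ∈ N, ((χ : G → ℂ) (x ^ ex j) / c)‖ := by
        intro j
        rw [norm_prod, Real.log_prod (fun χ hχ => (norm_pos_iff.mpr (hne j χ hχ)).ne'),
          Finset.mul_sum]
        refine Finset.sum_congr rfl fun χ _ => ?_
        rw [Real.log_pow]
        norm_num
      rw [Finset.sum_congr rfl fun j _ => h3 j, ← Finset.mul_sum, ← Real.log_prod, ← norm_prod]
      · exact mul_nonneg zero_le_two (Real.log_nonneg hPnorm)
      · intro j _
        exact (norm_pos_iff.mpr (Finset.prod_ne_zero_iff.2 fun χ hχ => hne j χ hχ)).ne'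
    simp only [Finset.sum_add_distrib, Finset.sum_const, nsmul_eq_mul, mul_one,
      Finset.card_univ] at h1
    linarith
  have hcR : (0 : ℝ) < (c : ℝ) ^ 2 := by positivity
  have hup : ∑ j : (ZMod n)ˣ, ∑ χ ∈ N, ‖(χ : G → ℂ) (x ^ ex j) / c‖ ^ 2 ≤
      (Fintype.card (ZMod n)ˣ : ℝ) * (Nat.card (Subgroup.centralizer ({x} : Set G)) / (c : ℝ) ^ 2) := by
    rw [← nsmul_eq_mul, ← Finset.card_univ, ← Finset.sum_const]
    refine Finset.sum_le_sum fun j _ => ?_
    rw [← card_centralizer_pow x (hex j), ← SmallSimple.SelfCentSum.sum_norm_sq, Finset.sum_div]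
    refine le_trans (le_of_eq (Finset.sum_congr rfl fun χ _ => ?_))
      (Finset.sum_le_sum_of_subset_of_nonneg (Finset.subset_univ N) fun _ _ _ => by positivity)
    rw [norm_div, div_pow, Complex.norm_natCast]
  have hfin := hAG.trans hup
  have hJ : (0 : ℝ) < Fintype.card (ZMod n)ˣ := by exact_mod_cast Fintype.card_pos
  have h1 := le_of_mul_le_mul_left hfin hJ
  rw [le_div_iff₀ hcR] at h1
  exact_mod_cast h1

/-- `m_d ≤ |C(x)|` if all characters of degree `d` are nonzero at `x` -/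
theorem mult_le_of_ne {G : Type u} [Group G] [Finite G] (x : G) {d : ℕ}
    (h : ∀ χ : IrrCharacter G, charDegree (χ : G → ℂ) = d → (χ : G → ℂ) x ≠ 0) :
    mult G d ≤ Nat.card (Subgroup.centralizer ({x} : Set G)) := by
  classical
  have := finite_irr (G := G)
  have := Fintype.ofFinite (IrrCharacter G)
  rw [mult_eq]
  have h1 := card_mul_sq_le x (c := 1) one_pos (Finset.univ.filter fun χ : IrrCharacter G => charDegree (χ : G → ℂ) = d)
    fun χ hχ => ⟨h χ (Finset.mem_filter.1 hχ).2, by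
      rw [Nat.cast_one, div_one]
      exact isIntegral_apply (isIrr_isCharacter χ.2) x⟩
  rwa [one_pow, mul_one] at h1

theorem ne_zero_of_not_dvd {G : Type u} [Group G] [Finite G] {p : ℕ} (hp : p.Prime) (χ : IrrCharacter G)
    (hd : ¬ p ∣ charDegree (χ : G → ℂ)) {x : G} (hx : ∃ k : ℕ, orderOf x = p ^ k) : (χ : G → ℂ) x ≠ 0 := by
  have : Fact p.Prime := ⟨hp⟩
  obtain ⟨k, hk⟩ := hx
  obtain ⟨d, μ, hd', hμ, hpow⟩ := Cfsg.Agent.Characters.GaloisBasic.isCharacter_exists_fin_pow (isIrr_isCharacter χ.2) x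
    (n := p ^ k) (pow_ne_zero _ hp.ne_zero) (by rw [← hk, pow_orderOf_eq_one])
  have h1 := hpow 1
  simp only [pow_one] at h1
  rw [h1]
  apply Cfsg.Agent.CharactersDeep.SumRootsUnity.sum_ne_zero_of_not_dvd (m := k) μ hμ
  rw [Fintype.card_fin]
  have h2 : charDegree (χ : G → ℂ) = d := by
    have h3 : ((charDegree (χ : G → ℂ) : ℕ) : ℂ) = d := by rw [charDegree_irr, hd']
    exact_mod_cast h3
  rwa [← h2]

/-- `m_d ≤ |C(x)|` for a `p`-element `x`, `p ∤ d` -/
theorem mult_le {G : Type u} [Group G] [Finite G] {p d : ℕ} (hp : p.Prime) (hd : ¬ p ∣ d) (x : G)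
    (hx : ∃ k : ℕ, orderOf x = p ^ k) : mult G d ≤ Nat.card (Subgroup.centralizer ({x} : Set G)) :=
  mult_le_of_ne x fun χ hχ => ne_zero_of_not_dvd hp χ (by rwa [hχ]) hx

theorem mult_le' {G : Type u} [Group G] [Finite G] {p d : ℕ} (hp : p.Prime) (hd : ¬ p ∣ d) (x : G)
    (hx : orderOf x = p) : mult G d ≤ Nat.card (Subgroup.centralizer ({x} : Set G)) :=
  mult_le hp hd x ⟨1, by rw [hx, pow_one]⟩

/-- the number of irreducible characters of degree `d` which do not vanish at `x` -/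
noncomputable def nvd {G : Type u} [Group G] (x : G) (d : ℕ) : ℕ :=
  Nat.card {χ : IrrCharacter G // charDegree (χ : G → ℂ) = d ∧ (χ : G → ℂ) x ≠ 0}

theorem isIntegral_central {G : Type u} [Group G] [Finite G] {χ : G → ℂ} (hχ : IsIrrCharacter G χ)
    (g : G) : IsIntegral ℤ (((Subgroup.centralizer ({g} : Set G)).index : ℂ) * χ g / χ 1) := by
  obtain ⟨n, ρ, hρ, rfl⟩ := hχ
  have h := Characters.CentralCharacter.isIntegral_index_mul_character_div ρ g
  have h1 : (ρ.character 1 : ℂ) = (Module.finrank ℂ (Fin n → ℂ) : ℂ) := ρ.char_one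
  rw [← h1] at h
  exact h

/-- `χ(x) / c` is an algebraic integer if `gcd(χ(1), |x^G|) c` divides `χ(1)` -/
theorem isIntegral_div {G : Type u} [Group G] [Finite G] (χ : IrrCharacter G) (x : G) {c : ℕ} (hc : 0 < c)
    (h : Nat.gcd (charDegree (χ : G → ℂ)) (Subgroup.centralizer ({x} : Set G)).index * c ∣
      charDegree (χ : G → ℂ)) : IsIntegral ℤ ((χ : G → ℂ) x / c) := by
  set d := charDegree (χ : G → ℂ) with hd
  set i := (Subgroup.centralizer ({x} : Set G)).index with hi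
  have hd0 : 0 < d := charDegree_pos χ
  obtain ⟨t, ht⟩ := h
  have h1 : (χ : G → ℂ) 1 = (d : ℂ) := (charDegree_irr χ).symm
  have h2 : IsIntegral ℤ (((i : ℂ)) * (χ : G → ℂ) x / d) := by
    rw [← h1]
    exact isIntegral_central χ.2 x
  have h3 : IsIntegral ℤ ((χ : G → ℂ) x) := isIntegral_apply (isIrr_isCharacter χ.2) x
  have hg : ((Nat.gcd d i : ℕ) : ℤ) = d * Nat.gcdA d i + i * Nat.gcdB d i := Nat.gcd_eq_gcd_ab d i
  have hg' : ((Nat.gcd d i : ℕ) : ℂ) = d * (Nat.gcdA d i : ℤ) + i * (Nat.gcdB d i : ℤ) := by exact_mod_cast hg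
  have hc0 : (c : ℂ) ≠ 0 := by exact_mod_cast hc.ne'
  have hdC : (d : ℂ) ≠ 0 := by exact_mod_cast hd0.ne'
  have ht' : (d : ℂ) = (Nat.gcd d i : ℕ) * c * t := by exact_mod_cast ht
  have h4 : (χ : G → ℂ) x / c = (t : ℂ) * ((Nat.gcdA d i : ℤ) * (χ : G → ℂ) x +
      (Nat.gcdB d i : ℤ) * ((i : ℂ) * (χ : G → ℂ) x / d)) := by
    have h5 : (χ : G → ℂ) x / c = (χ : G → ℂ) x * ((Nat.gcd d i : ℕ) * t) / d := by
      rw [div_eq_div_iff hc0 hdC, ht']
      ring
    rw [h5, hg']
    field_simp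
  rw [h4]
  exact IsIntegral.mul (isIntegral_natCast t) (IsIntegral.add (IsIntegral.mul (isIntegral_intCast _) h3)
    (IsIntegral.mul (isIntegral_intCast _) h2))

theorem nvd_mul_sq_le {G : Type u} [Group G] [Finite G] (x : G) {c d : ℕ} (hc : 0 < c)
    (h : Nat.gcd d (Subgroup.centralizer ({x} : Set G)).index * c ∣ d) :
    nvd x d * c ^ 2 ≤ Nat.card (Subgroup.centralizer ({x} : Set G)) := by
  classical
  have := finite_irr (G := G)
  have := Fintype.ofFinite (IrrCharacter G)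
  rw [nvd, Nat.card_eq_fintype_card, Fintype.card_subtype]
  exact card_mul_sq_le x hc _ fun χ hχ => ⟨(Finset.mem_filter.1 hχ).2.2,
    isIntegral_div χ x hc (by rw [(Finset.mem_filter.1 hχ).2.1]; exact h)⟩

theorem nvd_le {G : Type u} [Group G] [Finite G] (x : G) (d : ℕ) :
    nvd x d ≤ Nat.card (Subgroup.centralizer ({x} : Set G)) := by
  classical
  have := finite_irr (G := G)
  have := Fintype.ofFinite (IrrCharacter G)
  rw [nvd, Nat.card_eq_fintype_card, Fintype.card_subtype]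
  have h1 := card_mul_sq_le x (c := 1) one_pos
    (Finset.univ.filter fun χ : IrrCharacter G => charDegree (χ : G → ℂ) = d ∧ (χ : G → ℂ) x ≠ 0)
    fun χ hχ => ⟨(Finset.mem_filter.1 hχ).2.2, by
      rw [Nat.cast_one, div_one]
      exact isIntegral_apply (isIrr_isCharacter χ.2) x⟩
  rwa [one_pow, mul_one] at h1

/-- `m_d` is at most the sum of the numbers of characters of degree `d` not vanishing at the elements of a list -/
theorem mult_le_sum {G : Type u} [Group G] [Finite G] (l : List G) {d : ℕ}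
    (h : ∀ χ : IrrCharacter G, charDegree (χ : G → ℂ) = d → ∃ x ∈ l, (χ : G → ℂ) x ≠ 0) :
    mult G d ≤ (l.map fun x => nvd x d).sum := by
  classical
  have := finite_irr (G := G)
  have := Fintype.ofFinite (IrrCharacter G)
  have key : ∀ (l : List G) (N : Finset (IrrCharacter G)),
      (∀ χ ∈ N, charDegree (χ : G → ℂ) = d ∧ ∃ x ∈ l, (χ : G → ℂ) x ≠ 0) → N.card ≤ (l.map fun x => nvd x d).sum := by
    intro l
    induction l with
    | nil =>
      intro N hN
      have : N = ∅ := Finset.eq_empty_of_forall_notMem fun χ hχ => by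
        obtain ⟨-, x, hx, -⟩ := hN χ hχ
        exact absurd hx (List.not_mem_nil)
      rw [this]
      simp
    | cons y l ih =>
      intro N hN
      rw [List.map_cons, List.sum_cons, ← Finset.card_filter_add_card_filter_not (s := N) (p := fun χ => (χ : G → ℂ) y ≠ 0)]
      refine Nat.add_le_add ?_ (ih _ ?_)
      · rw [nvd, Nat.card_eq_fintype_card, Fintype.card_subtype]
        refine Finset.card_le_card fun χ hχ => ?_
        obtain ⟨h1, h2⟩ := Finset.mem_filter.1 hχ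
        exact Finset.mem_filter.2 ⟨Finset.mem_univ _, (hN χ h1).1, h2⟩
      · intro χ hχ
        obtain ⟨h1, h2⟩ := Finset.mem_filter.1 hχ
        obtain ⟨h3, x, hx, h4⟩ := hN χ h1
        rcases List.mem_cons.1 hx with rfl | hx
        · exact absurd h4 h2
        · exact ⟨h3, x, hx, h4⟩
  rw [mult_eq]
  exact key l _ fun χ hχ => ⟨(Finset.mem_filter.1 hχ).2, h χ (Finset.mem_filter.1 hχ).2⟩

/-- a `p`-subgroup `Q` with `|Q| ∤ χ(1)` has an element `x ≠ 1` with `χ(x) ≠ 0` -/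
theorem exists_ne_zero {G : Type u} [Group G] [Finite G] (Q : Subgroup G) (χ : IrrCharacter G)
    (h : ¬ Nat.card Q ∣ charDegree (χ : G → ℂ)) : ∃ x ∈ Q, x ≠ 1 ∧ (χ : G → ℂ) x ≠ 0 := by
  by_contra hne
  apply h
  obtain ⟨k, hk⟩ := S0189.card_dvd_degree_of_vanishing Q (χ : G → ℂ) (isIrr_isCharacter χ.2) fun g hg h1 => by
    by_contra h2
    exact hne ⟨g, hg, h1, h2⟩
  rw [← charDegree_irr χ] at hk
  exact ⟨k, by exact_mod_cast hk⟩

theorem mult_congr {G : Type u} {H : Type v} [Group G] [Group H] (e : G ≃* H) (d : ℕ) : mult G d = mult H d := by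
  refine Nat.card_congr (Equiv.subtypeEquiv (irrEquiv e).symm fun χ => ?_)
  have h3 := charDegree_comp e.symm (χ : G → ℂ)
  show charDegree (χ : G → ℂ) = d ↔ charDegree ((χ : G → ℂ) ∘ e.symm) = d
  rw [h3]

theorem ndeg_congr {G : Type u} {H : Type v} [Group G] [Group H] (e : G ≃* H) {d : ℕ} (h : NDeg G d) : NDeg H d := by
  obtain ⟨χ, h1, h2⟩ := h
  refine ⟨(irrEquiv e).symm χ, fun h3 => h1 ?_, ?_⟩
  · funext g
    have h4 : ((χ : G → ℂ) ∘ e.symm) (e g) = 1 := congrFun h3 (e g)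
    rwa [Function.comp_apply, e.symm_apply_apply] at h4
  · exact (charDegree_comp e.symm (χ : G → ℂ)).trans h2

/-- **no covering with factor at least `m`**: either a large degree or all small degrees have multiplicity less
than `m` -/
def NC (S : Type u) [Group S] (m : ℕ) : Prop :=
  (∃ d, NDeg S d ∧ Nat.card S ≤ m * d ^ 2) ∨
    ∀ d, 1 < d → d ∣ Nat.card S → m * d ^ 2 < Nat.card S → mult S d < m

theorem NC.not_cov {K : Type u} {L : Type v} [Group K] [Group L] [Finite K] [Finite L] [IsSimpleGroup K]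
    [IsSimpleGroup L] (hK : ¬ ∀ a b : K, a * b = b * a) (hL : ¬ ∀ a b : L, a * b = b * a) {m k : ℕ} (h : NC K m)
    (hk : m ≤ k) : ¬ Cov K L k := by
  intro hc
  rcases h with ⟨d, h1, h2⟩ | h
  · have h3 := hc.lt hL h1
    have h4 := Nat.mul_le_mul_right (d ^ 2) hk
    omega
  · obtain ⟨d, -, h1, h2, h3, h4⟩ := exists_mult hc hK
    have h5 := Nat.mul_le_mul_right (d ^ 2) hk
    have h6 := h d h1 h2 (by omega)
    omega

theorem NC.congr {G : Type u} {H : Type v} [Group G] [Group H] (e : G ≃* H) {m : ℕ} (h : NC G m) : NC H m := by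
  have hc : Nat.card G = Nat.card H := Nat.card_congr e.toEquiv
  rcases h with ⟨d, h1, h2⟩ | h
  · exact Or.inl ⟨d, ndeg_congr e h1, by rw [← hc]; exact h2⟩
  · refine Or.inr fun d h1 h2 h3 => ?_
    rw [← mult_congr e]
    rw [← hc] at h2 h3
    exact h d h1 h2 h3

theorem NC.mono {G : Type u} [Group G] {m n : ℕ} (h : NC G m) (hmn : m ≤ n) : NC G n := by
  rcases h with ⟨d, h1, h2⟩ | h
  · exact Or.inl ⟨d, h1, h2.trans (Nat.mul_le_mul_right _ hmn)⟩
  · refine Or.inr fun d h1 h2 h3 => ?_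
    have h4 := Nat.mul_le_mul_right (d ^ 2) hmn
    have := h d h1 h2 (by omega)
    omega

/-- a large degree -/
theorem NC.of_deg {S : Type u} [Group S] {m d : ℕ} (h : NDeg S d) (hm : Nat.card S ≤ m * d ^ 2) : NC S m :=
  Or.inl ⟨d, h, hm⟩

/-- `4 m ≥ |S|` -/
theorem NC.trivial {S : Type u} [Group S] {m : ℕ} (hm : Nat.card S ≤ 4 * m) : NC S m := by
  refine Or.inr fun d h1 _ h2 => ?_
  have h3 : m * 4 ≤ m * d ^ 2 := Nat.mul_le_mul_left _ (by nlinarith)
  omega

/-- primes `p` with a `p`-element whose centralizer has order less than `m`, whose product is large -/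
theorem NC.of_primes {S : Type u} [Group S] [Finite S] {m : ℕ} (l : List ℕ) (hl : ∀ p ∈ l, p.Prime)
    (hnd : l.Nodup) (hx : ∀ p ∈ l, ∃ x : S, (∃ k : ℕ, orderOf x = p ^ k) ∧ Nat.card (Subgroup.centralizer ({x} : Set S)) < m)
    (hm : Nat.card S ≤ m * l.prod ^ 2) : NC S m := by
  refine Or.inr fun d h1 _ h2 => ?_
  by_cases h : ∀ p ∈ l, p ∣ d
  · exfalso
    have h3 : l.prod ∣ d := by
      clear hx hm h2
      induction l with
      | nil => simp
      | cons p l ih =>
        rw [List.prod_cons]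
        obtain ⟨h4, h5⟩ := List.nodup_cons.1 hnd
        refine Nat.Coprime.mul_dvd_of_dvd_of_dvd ?_ (h p List.mem_cons_self)
          (ih (fun q hq => hl q (List.mem_cons_of_mem _ hq)) h5 fun q hq => h q (List.mem_cons_of_mem _ hq))
        refine Nat.coprime_list_prod_right_iff.2 fun q hq => ?_
        refine (Nat.coprime_primes (hl p List.mem_cons_self) (hl q (List.mem_cons_of_mem _ hq))).2 ?_
        rintro rfl
        exact h4 hq
    have h4 := Nat.le_of_dvd (by omega) h3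
    have h5 : m * l.prod ^ 2 ≤ m * d ^ 2 := Nat.mul_le_mul_left _ (Nat.pow_le_pow_left h4 2)
    omega
  · push Not at h
    obtain ⟨p, hp, hpd⟩ := h
    obtain ⟨x, hx1, hx2⟩ := hx p hp
    exact lt_of_le_of_lt (mult_le (hl p hp) hpd x hx1) hx2

end Cfsg.Agent.H101.Cod
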