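import Cfsg.Agent.CharDeep.CliffordCorr
import Cfsg.Agent.H595.GoUp
import Cfsg.Agent.H101.Cod.Mult

/-!
# Large degrees from subquotients (helper101)
-/

set_option autoImplicit false

namespace Cfsg.Agent.H101.Cod

open Cfsg Cfsg.Agent.H66.Cod Cfsg.Agent.Characters.Core Cfsg.Agent.CharDeep.CliffordCorr

/-- the degree of a character is at least the degree of a constituent -/
theorem charDegree_le_of_inner {G : Type*} [Group G] [Fintype G] {χ : G → ℂ} (hχ : IsCharacter G χ)
    (θ : IrrCharacter G) (h : classInner χ (θ : G → ℂ) ≠ 0) : charDegree (θ : G → ℂ) ≤ charDegree χ := by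
  classical
  have := finite_irr (G := G)
  have := Fintype.ofFinite (IrrCharacter G)
  obtain ⟨c, hc, hc'⟩ := exists_nat_coeffs hχ
  choose dd _ hdd using fun η : IrrCharacter G => isIrr_apply_one η.2
  have h1 : χ 1 = ((∑ η : IrrCharacter G, c η * dd η : ℕ) : ℂ) := by
    rw [hc]
    push_cast
    simp only [Finset.sum_apply, Pi.smul_apply, smul_eq_mul, hdd]
  rw [Cfsg.Agent.Blocks.Basic.charDegree_of_eq h1, Cfsg.Agent.Blocks.Basic.charDegree_of_eq (hdd θ)]
  have h2 : c θ ≠ 0 := by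
    intro h3
    apply h
    rw [hc', h3, Nat.cast_zero]
  calc dd θ ≤ c θ * dd θ := Nat.le_mul_of_pos_left _ (by omega)
    _ ≤ _ := Finset.single_le_sum (f := fun η => c η * dd η) (fun _ _ => Nat.zero_le _) (Finset.mem_univ θ)

/-- **a subquotient gives a degree at least as large** -/
theorem ndeg_of_sub {G U Q : Type*} [Group G] [Finite G] [Group U] [Group Q] (j : U →* G)
    (hj : Function.Injective j) (π : U →* Q) (hπ : Function.Surjective π) {e : ℕ} (he : NDeg Q e) (h2 : 2 ≤ e) :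
    ∃ d, NDeg G d ∧ e ≤ d := by
  classical
  have := Fintype.ofFinite G
  have : Finite U := Finite.of_injective j hj
  have := Fintype.ofFinite U
  obtain ⟨ψ, -, hψ⟩ := he
  let θ : IrrCharacter U := ⟨(ψ : Q → ℂ) ∘ π, isIrr_comp π hπ ψ.2⟩
  have hθ : charDegree (θ : U → ℂ) = e := by
    rw [← hψ]
    unfold charDegree
    show Nat.floor (((ψ : Q → ℂ) ∘ π) 1).re = _
    rw [Function.comp_apply, map_one]
  obtain ⟨χ, hχ⟩ := Cfsg.Agent.H595.GoUp.exists_over j hj θ
  have h3 : charDegree (θ : U → ℂ) ≤ charDegree ((χ : G → ℂ) ∘ j) := by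
    refine charDegree_le_of_inner ?_ θ hχ
    obtain ⟨n, ρ, hρ⟩ := (isIrr_isCharacter χ.2)
    exact ⟨n, ρ.comp j, by rw [← hρ]; rfl⟩
  have h4 : charDegree ((χ : G → ℂ) ∘ j) = charDegree (χ : G → ℂ) := by
    unfold charDegree
    rw [Function.comp_apply, map_one]
  refine ⟨charDegree (χ : G → ℂ), ⟨χ, ?_, rfl⟩, by omega⟩
  intro h5
  have h6 : charDegree (χ : G → ℂ) = 1 := by
    rw [h5]
    exact Cfsg.Agent.H495.Cod.charDegree_one
  omega

/-- for a subgroup `U` and a normal subgroup `N` of `U` -/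
theorem ndeg_of_quot {G : Type*} [Group G] [Finite G] (U : Subgroup G) (N : Subgroup U) [N.Normal] {e : ℕ}
    (he : NDeg (U ⧸ N) e) (h2 : 2 ≤ e) : ∃ d, NDeg G d ∧ e ≤ d :=
  ndeg_of_sub U.subtype U.subtype_injective (QuotientGroup.mk' N) (QuotientGroup.mk'_surjective N) he h2

/-- the criterion with a lower bound of a degree -/
theorem NC.of_le {S : Type*} [Group S] {m e : ℕ} (h : ∃ d, NDeg S d ∧ e ≤ d) (hm : Nat.card S ≤ m * e ^ 2) :
    NC S m := by
  obtain ⟨d, h1, h2⟩ := h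
  exact NC.of_deg h1 (hm.trans (Nat.mul_le_mul_left _ (Nat.pow_le_pow_left h2 2)))

end Cfsg.Agent.H101.Cod
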