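import Cfsg.Agent.H101.Cod.Mult
import Cfsg.Agent.H715.Fpr.HS
import Cfsg.Agent.H846.PB.Gen
import Cfsg.Agent.H843.IMC.Co3A
import Cfsg.Agent.H843.IMC.Co1B
import Cfsg.Agent.CpAutTits.Row
import Cfsg.Agent.EvenType.ChevTwoTits
import Cfsg.Agent.H661.SporRuTits
import Cfsg.Agent.NotCT.Orders
import Cfsg.Agent.S1624

/-!
# Codegrees of simple groups: `J2`, `HS`, `Co3`, `Co1`, the Tits group (helper101)
-/

set_option autoImplicit false

universe u v

namespace Cfsg.Agent.H101.Cod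

open Cfsg Subgroup Cfsg.Agent.H66.Cod Cfsg.Agent.H686.CharKit

theorem ndeg_of {G : Type u} [Group G] (χ : IrrCharacter G) {d : ℕ} (h : charDegree (χ : G → ℂ) = d) (hd : d ≠ 1) :
    NDeg G d := by
  refine ⟨χ, fun h1 => hd ?_, h⟩
  rw [← h, h1]
  exact Cfsg.Agent.H495.Cod.charDegree_one

theorem nc_j2 {S : Type u} [Group S] (h : Spor.IsoJ2 S) : NC S 153 := by
  have hJ : Nat.card Spor.J2 = 604800 := NotCT.Orders.j2 ⟨MulEquiv.refl _⟩
  have : Finite Spor.J2 := Nat.finite_of_card_ne_zero (by rw [hJ]; norm_num)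
  obtain ⟨e⟩ := h
  refine NC.congr e.symm ?_
  obtain ⟨H, h1, -, q₁, q₂, ho1, ho2⟩ := Cfsg.Agent.S1624.result
  obtain ⟨R, hR⟩ := Cfsg.Agent.H690.Spor.RankThree.R3.of_index H (k := 36) (l := 63) h1 ho1 ho2 (by norm_num)
    (by norm_num) (by norm_num)
  obtain ⟨χ₁, χ₂, hχ1, hχ2, hr1, hr2⟩ := Cfsg.Agent.H846.PB.exists_real_of_R3 hR (Or.inl (by decide)) (f₀ := 36)
    (by decide +kernel) (by norm_num) (by norm_num)
  exact NC.of_deg (ndeg_of χ₂ hχ2 (by norm_num)) (by rw [hJ]; norm_num)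

theorem exists_elt_lt' {G : Type u} [Group G] [Finite G] {r C m : ℕ} (hr : r.Prime) (hd : r ∣ Nat.card G)
    (h : ∀ R : Subgroup G, Nat.card R = r → Nat.card (centralizer (R : Set G)) ≤ C) (hC : C < m) :
    ∃ x : G, (∃ k : ℕ, orderOf x = r ^ k) ∧ Nat.card (centralizer ({x} : Set G)) < m := by
  have : Fact r.Prime := ⟨hr⟩
  obtain ⟨x, hx⟩ := exists_prime_orderOf_dvd_card' r hd
  refine ⟨x, ⟨1, by rw [hx, pow_one]⟩, ?_⟩
  have h1 := h (zpowers x) (by rw [Nat.card_zpowers, hx])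
  rw [zpowers_eq_closure, centralizer_closure] at h1
  omega

theorem nc_hs {S : Type u} [Group S] (h : Spor.IsoHS S) : NC S 7481 := by
  obtain ⟨e⟩ := h
  refine NC.congr e.symm ?_
  have h : Spor.IsoHS Spor.HS := ⟨MulEquiv.refl _⟩
  have hc : Nat.card Spor.HS = 44352000 := NotCT.Orders.hs h
  have : Finite Spor.HS := Nat.finite_of_card_ne_zero (by rw [hc]; norm_num)
  refine NC.of_primes [11, 7] (by decide +kernel) (by decide) ?_ (by rw [hc]; decide)
  intro p hp
  simp only [List.mem_cons, List.not_mem_nil, or_false] at hp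
  rcases hp with rfl | rfl
  · exact exists_elt_lt' (by norm_num) (by rw [hc]; norm_num) (fun R hR => (H715.Fpr.HS.cn11 h hR).1.le) (by norm_num)
  · exact exists_elt_lt' (by norm_num) (by rw [hc]; norm_num) (fun R hR => (H715.Fpr.HS.cn7 h hR).1.le) (by norm_num)

theorem nc_co3 {S : Type u} [Group S] (h : Spor.IsoCo3 S) : NC S 8386560 := by
  have hc : Nat.card Spor.Co3 = 495766656000 := NotCT.Orders.co3 ⟨MulEquiv.refl _⟩
  obtain ⟨e⟩ := h
  refine NC.congr e.symm ?_
  obtain ⟨χ, hχ⟩ := H843.IMC.Co3A.hasDeg_275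
  exact NC.of_deg (ndeg_of χ hχ (by norm_num)) (by rw [hc]; norm_num)

theorem nc_co1 {S : Type u} [Group S] (h : Spor.IsoCo1 S) : NC S (10 ^ 14) := by
  have hc : Nat.card Spor.Co1 = 4157776806543360000 := NotCT.Orders.co1 ⟨MulEquiv.refl _⟩
  obtain ⟨e⟩ := h
  refine NC.congr e.symm ?_
  obtain ⟨χ, hχ⟩ := H843.IMC.Co1B.hasDeg_276
  exact NC.of_deg (ndeg_of χ hχ (by norm_num)) (by rw [hc]; norm_num)

theorem nc_tits {S : Type u} [Group S] (h : Lie.IsoTits S) : NC S 8120 := by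
  have hc : Nat.card S = 17971200 := NotCT.Orders.tits h
  have : Finite S := Nat.finite_of_card_ne_zero (by rw [hc]; norm_num)
  have hout := Cfsg.Agent.CpAutTits.Row.out h
  have h2 := Cfsg.Agent.EvenType.ChevTwoTits.charTwo h
  refine NC.of_primes [13, 5] (by decide +kernel) (by decide) ?_ (by rw [hc]; decide)
  intro p hp
  simp only [List.mem_cons, List.not_mem_nil, or_false] at hp
  rcases hp with rfl | rfl
  · have : Fact (Nat.Prime 13) := ⟨by norm_num⟩
    obtain ⟨x, hx⟩ := exists_prime_orderOf_dvd_card' (G := S) 13 (by rw [hc]; norm_num)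
    refine ⟨x, ⟨1, by rw [hx, pow_one]⟩, ?_⟩
    have k2 : ¬ 2 ∣ Nat.card (centralizer ({x} : Set S)) := by
      intro hd
      have : Fact (Nat.Prime 2) := ⟨Nat.prime_two⟩
      obtain ⟨y, hy⟩ := exists_prime_orderOf_dvd_card' (G := centralizer ({x} : Set S)) 2 hd
      exact Cfsg.Agent.H661.Spor.not_commute_two h2 (by rw [hc]; norm_num) hx
        (by rw [Subgroup.orderOf_coe, hy]) (mem_centralizer_singleton_iff.1 y.2).symm
    have hd : Nat.card (centralizer ({x} : Set S)) ∣ 2 ^ 11 * 8775 := by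
      have h3 := card_subgroup_dvd_card (centralizer ({x} : Set S))
      rw [hc] at h3
      exact h3.trans (by norm_num)
    have k3 : Nat.card (centralizer ({x} : Set S)) ∣ 8775 :=
      (Nat.Coprime.pow_right _ ((Nat.Prime.coprime_iff_not_dvd Nat.prime_two).2 k2).symm).dvd_of_dvd_mul_left hd
    have k5 : ¬ 5 ∣ Nat.card (centralizer ({x} : Set S)) := by
      intro hd
      have : Fact (Nat.Prime 5) := ⟨by norm_num⟩
      obtain ⟨y, hy⟩ := exists_prime_orderOf_dvd_card' (G := centralizer ({x} : Set S)) 5 hd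
      have h4 := hout.cent (y : S) (by rw [Subgroup.orderOf_coe, hy])
      have h5 : 13 ∣ Nat.card (centralizer ({(y : S)} : Set S)) := by
        rw [← hx, ← Nat.card_zpowers]
        refine card_dvd_of_le ?_
        rw [zpowers_le, mem_centralizer_singleton_iff]
        exact (mem_centralizer_singleton_iff.1 y.2).symm
      rw [h4] at h5
      norm_num at h5
    have k6 : Nat.card (centralizer ({x} : Set S)) ∣ 351 :=
      (Nat.Coprime.pow_right 2 ((Nat.Prime.coprime_iff_not_dvd (by norm_num : Nat.Prime 5)).2 k5).symm).dvd_of_dvd_mul_left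
        (k3.trans (by norm_num))
    exact lt_of_le_of_lt (Nat.le_of_dvd (by norm_num) k6) (by norm_num)
  · have : Fact (Nat.Prime 5) := ⟨by norm_num⟩
    obtain ⟨x, hx⟩ := exists_prime_orderOf_dvd_card' (G := S) 5 (by rw [hc]; norm_num)
    exact ⟨x, ⟨1, by rw [hx, pow_one]⟩, by rw [hout.cent x hx]; norm_num⟩

end Cfsg.Agent.H101.Cod
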