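import Cfsg.Agent.H101.Cod.SporFi22
import Cfsg.Agent.CTwoTab.BInst
import Cfsg.Agent.S1066
import Cfsg.Agent.S1070

/-!
# The Baby Monster has a degree at least `2 ^ 36` (helper101)
-/

set_option autoImplicit false

namespace Cfsg.Agent.H101.Cod

open Cfsg Cfsg.Agent.H66.Cod Cfsg.Agent.Characters.Core

universe u

/-- a field of order `2 ^ k` has characteristic 2 -/
theorem charP_two {F : Type*} [Field F] [Fintype F] {k : ℕ} (hF : Fintype.card F = 2 ^ k) : CharP F 2 := by
  obtain ⟨p, hp⟩ := CharP.exists F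
  have hp' : p.Prime := (CharP.char_is_prime_or_zero F p).resolve_right
    (fun h0 => by subst h0; exact CharP.char_ne_zero_of_finite F 0 rfl)
  obtain ⟨n, hn1, hn2⟩ := FiniteField.card F p
  have h2 : p = 2 := by
    have h1 : p ∣ 2 ^ k := by
      rw [← hF, hn2]
      exact dvd_pow_self p n.pos.ne'
    exact (Nat.prime_dvd_prime_iff_eq hp' Nat.prime_two).mp (hp'.dvd_of_dvd_pow h1)
  rwa [h2] at hp

/-- the Steinberg degree of `²E₆(2)` -/
theorem ndeg_twE {K : Type} [Field K] [Fintype K] (hK : Fintype.card K = 4) :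
    NDeg (Cfsg.Lie.twistedE6 K 2) (2 ^ 36) := by
  have hs : IsSimpleGroup (Cfsg.Lie.twistedE6 K 2) :=
    (Cfsg.Agent.S1070.result (K := K) (q := 2) Nat.prime_two.isPrimePow (by rw [hK]; norm_num)).1
  have hc : Nat.card (Cfsg.Lie.twistedE6 K 2) = 76532479683774853939200 := by
    have h := Cfsg.Agent.S1066.result (K := K) (q := 2) Nat.prime_two.isPrimePow (by rw [hK]; norm_num)
    norm_num at h
    omega
  have hfin : Finite (Cfsg.Lie.twistedE6 K 2) := Nat.finite_of_card_ne_zero (by rw [hc]; norm_num)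
  have hc2 : CharP K 2 := charP_two (k := 2) (by rw [hK]; norm_num)
  have hl : IsLieTypeChar 2 (Cfsg.Lie.twistedE6 K 2) := Or.inr (Or.inr (Or.inr (Or.inr (Or.inr (Or.inr (Or.inr (Or.inl
    ⟨K, inferInstance, inferInstance, hc2, 2, Nat.prime_two.isPrimePow, Or.inl ⟨by rw [hK]; norm_num, ⟨MulEquiv.refl _⟩⟩⟩)))))))
  exact ndeg_st hl (fact_eq (m := 1113694156575) Nat.prime_two (by rw [hc]; norm_num) (by norm_num)) (by norm_num)

theorem exists_b {S : Type u} [Group S] [Finite S] (h : Spor.IsoB S) : ∃ d, NDeg S d ∧ 2 ^ 36 ≤ d := by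
  obtain ⟨e⟩ := h
  obtain ⟨K, _, _, hK, t, X₀, σ, H, -, -⟩ := CTwoTab.BInst.exists_sec
  refine ndeg_of_sub (e.symm.toMonoidHom.comp X₀.subtype) (e.symm.injective.comp X₀.subtype_injective) σ H.surj
    (ndeg_twE hK) (by norm_num)

theorem nc_b {S : Type u} [Group S] [Finite S] (h : Spor.IsoB S) : NC S 879809200811 :=
  NC.of_le (exists_b h) (by rw [NotCT.Orders.b h]; norm_num)

end Cfsg.Agent.H101.Cod
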