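import Cfsg.Agent.H101.Cod.Over
import Cfsg.Agent.H761.LieExt
import Cfsg.Agent.S0280
import Cfsg.Agent.S0283
import Cfsg.Agent.S1684
import Cfsg.Agent.NotCT.Orders

/-!
# `Fi22` has a degree at least `2 ^ 15` (helper101)
-/

set_option autoImplicit false

namespace Cfsg.Agent.H101.Cod

open Cfsg Cfsg.Agent.H66.Cod Cfsg.Agent.Characters.Core

universe u

/-- the Steinberg character as a nontrivial degree -/
theorem ndeg_st {p : ℕ} [hp : Fact p.Prime] {S : Type*} [Group S] [Finite S] [IsSimpleGroup S]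
    (h : IsLieTypeChar p S) {a : ℕ} (ha : (Nat.card S).factorization p = a) (h1 : a ≠ 0) : NDeg S (p ^ a) := by
  obtain ⟨θ, hθ, -⟩ := Cfsg.Agent.H761.LieExt.ext_of_hasSplit
    (Cfsg.Agent.H979.LieSplit.hasSplit_of_isLieTypeChar hp.1 h)
  refine ⟨θ, ?_, by rw [hθ, ha]⟩
  intro h2
  rw [h2, ha] at hθ
  have h3 := Cfsg.Agent.H495.Cod.charDegree_one (G := S)
  have h4 : 1 < p ^ a := Nat.one_lt_pow h1 hp.1.one_lt
  omega

/-- a number `n = p ^ a m` with `p ∤ m` -/
theorem fact_eq {p n a m : ℕ} (hp : p.Prime) (hn : n = p ^ a * m) (hm : ¬ p ∣ m) : n.factorization p = a := by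
  rw [hn, Nat.factorization_mul (pow_ne_zero _ hp.ne_zero) (by rintro rfl; exact hm (dvd_zero p)),
    Finsupp.add_apply, hp.factorization_pow, Finsupp.single_eq_same, Nat.factorization_eq_zero_of_not_dvd hm]
  omega

theorem card_psu6 {F : Type*} [Field F] [Fintype F] (hF : Fintype.card F = 4) : Nat.card (PSU 6 F 2) = 9196830720 := by
  have h := Cfsg.Agent.S0280.result (F := F) (q := 2) (by rw [hF]; norm_num) 6 (by norm_num)
  have h1 : Nat.gcd 6 (2 + 1) = 3 := by decide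
  have h2 : (∏ i ∈ Finset.range 6, (if Even i then 2 ^ (i + 1) + 1 else 2 ^ (i + 1) - 1)) = 2525985 := by decide
  rw [h1, h2] at h
  omega

/-- the Steinberg degree of `U6(2)` -/
theorem ndeg_psu6 {F : Type} [Field F] [Fintype F] (hF : Fintype.card F = 4) : NDeg (PSU 6 F 2) (2 ^ 15) := by
  have hs : IsSimpleGroup (PSU 6 F 2) := Cfsg.Agent.S0283.result (by rw [hF]; norm_num) 6 (by norm_num) (by norm_num)
  have hc := card_psu6 hF
  have hfin : Finite (PSU 6 F 2) := Nat.finite_of_card_ne_zero (by rw [hc]; norm_num)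
  have hc2 : CharP F 2 := by
    obtain ⟨p, hp⟩ := CharP.exists F
    have hp' : p.Prime := (CharP.char_is_prime_or_zero F p).resolve_right
      (fun h0 => by subst h0; exact CharP.char_ne_zero_of_finite F 0 rfl)
    obtain ⟨k, hk1, hk2⟩ := FiniteField.card F p
    have h2 : p = 2 := by
      have h1 : p ∣ 2 ^ 2 := by
        rw [show (2 ^ 2 : ℕ) = 4 by norm_num, ← hF, hk2]
        exact dvd_pow_self p k.pos.ne'
      exact (Nat.prime_dvd_prime_iff_eq hp' Nat.prime_two).mp (hp'.dvd_of_dvd_pow h1)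
    rwa [h2] at hp
  have hl : IsLieTypeChar 2 (PSU 6 F 2) := Or.inr (Or.inr (Or.inl ⟨F, inferInstance, inferInstance, hc2, 6, 2,
    by rw [hF]; norm_num, by norm_num, by omega, ⟨MulEquiv.refl _⟩⟩))
  exact ndeg_st hl (fact_eq (m := 280665) Nat.prime_two (by rw [hc]; norm_num) (by norm_num)) (by norm_num)

theorem exists_fi22 {S : Type u} [Group S] [Finite S] (h : Spor.IsoFi22 S) : ∃ d, NDeg S d ∧ 2 ^ 15 ≤ d := by
  obtain ⟨e⟩ := h
  obtain ⟨K, _, _, hK, -, ⟨f⟩, -⟩ := Cfsg.Agent.S1684.result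
  refine ndeg_of_sub (e.symm.toMonoidHom.comp (Subgroup.subtype _)) ?_ (f.toMonoidHom.comp (QuotientGroup.mk' _))
    ?_ (ndeg_psu6 hK) (by norm_num)
  · exact e.symm.injective.comp (Subgroup.subtype_injective _)
  · exact f.surjective.comp (QuotientGroup.mk'_surjective _)

theorem nc_fi22 {S : Type u} [Group S] [Finite S] (h : Spor.IsoFi22 S) : NC S 60129 :=
  NC.of_le (exists_fi22 h) (by rw [NotCT.Orders.fi22 h]; norm_num)

end Cfsg.Agent.H101.Cod
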