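import Cfsg.Agent.H101.Cod.Sq
import Cfsg.Agent.H961.SepFi23
import Cfsg.Agent.H841.PB.FiTwentyThreeA

/-!
# Codegrees of simple groups: `Fi23` (helper101)
-/

set_option autoImplicit false
set_option maxRecDepth 100000

universe u v

namespace Cfsg.Agent.H101.Cod

open Cfsg Subgroup Cfsg.Agent.H66.Cod Cfsg.Agent.H686.CharKit

/-- from subgroups of prime order -/
theorem mult_lt_of_cn {G : Type u} [Group G] [Finite G] {r C m : ℕ} (hr : r.Prime) (hd : r ∣ Nat.card G)
    (h : ∀ R : Subgroup G, Nat.card R = r → Nat.card (centralizer (R : Set G)) ≤ C) (hC : C < m) {d : ℕ}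
    (hrd : ¬ r ∣ d) : mult G d < m := by
  have : Fact r.Prime := ⟨hr⟩
  obtain ⟨x, hx⟩ := exists_prime_orderOf_dvd_card' r hd
  have h1 := h (zpowers x) (by rw [Nat.card_zpowers, hx])
  rw [zpowers_eq_closure, centralizer_closure] at h1
  exact lt_of_le_of_lt ((mult_le' hr hrd x hx).trans h1) hC

theorem exists_card_sq {G : Type u} [Group G] [Finite G] {p k : ℕ} (hp : p.Prime) (h : p ^ k ∣ Nat.card G) :
    ∃ Q : Subgroup G, Nat.card Q = p ^ k := by
  have : Fact p.Prime := ⟨hp⟩
  exact Sylow.exists_subgroup_card_pow_prime p h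

theorem nc_fi23 {S : Type u} [Group S] (h : Spor.IsoFi23 S) : NC S 306936 := by
  obtain ⟨e⟩ := h
  refine NC.congr e.symm ?_
  have hc : Nat.card Spor.Fi23 = 4089470473293004800 := Cfsg.Agent.H841.PB.FiTwentyThree.fi23_card
  have : Finite Spor.Fi23 := Nat.finite_of_card_ne_zero (by rw [hc]; norm_num)
  refine NC.of_parts' [23, 17, 13, 11, 7, 25] (by decide +kernel) ?_ (by rw [hc]; decide +kernel)
  intro p hp d hd0 hd2 hd
  simp only [List.mem_cons, List.not_mem_nil, or_false] at hp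
  rcases hp with rfl | rfl | rfl | rfl | rfl | rfl
  · exact mult_lt_of_cn (by norm_num) (by rw [hc]; norm_num) (fun R hR => (H961.SepFi23.data23 hR).1.le) (by norm_num) hd
  · exact mult_lt_of_cn (by norm_num) (by rw [hc]; norm_num) (fun R hR => (H961.SepFi23.data17 hR).1.le) (by norm_num) hd
  · exact mult_lt_of_cn (by norm_num) (by rw [hc]; norm_num) (fun R hR => (H961.SepFi23.data13 hR).1.le) (by norm_num) hd
  · exact mult_lt_of_cn (by norm_num) (by rw [hc]; norm_num)
      (fun R hR => Nat.le_of_dvd (by norm_num) (H961.SepFi23.data11 hR).1) (by norm_num) hd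
  · have : Fact (Nat.Prime 7) := ⟨by norm_num⟩
    obtain ⟨x, hx⟩ := exists_prime_orderOf_dvd_card' (G := Spor.Fi23) 7 (by rw [hc]; norm_num)
    refine lt_of_le_of_lt (mult_le' (by norm_num) hd x hx) ?_
    rw [Cfsg.Agent.H841.PB.FiTwentyThree.card_cent_seven hx]
    norm_num
  · obtain ⟨Q, hQ⟩ := exists_card_sq (G := Spor.Fi23) (p := 5) (k := 2) (by norm_num) (by rw [hc]; norm_num)
    refine lt_of_le_of_lt (mult_le_sq (by norm_num : Nat.Prime 5) Q hQ (by rw [hc]; norm_num)
      (fun x _ hx => (Cfsg.Agent.H841.PB.FiTwentyThree.card_cent_five hx).le) hd) (by norm_num)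

end Cfsg.Agent.H101.Cod
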