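import Cfsg.Agent.H101.Cod.SporA
import Cfsg.Agent.H846.PB.McLDeg
import Cfsg.Agent.H713.Spor.McL

/-!
# Codegrees of simple groups: `McL` (helper101)
-/

set_option autoImplicit false

universe u v

namespace Cfsg.Agent.H101.Cod

open Cfsg Subgroup Cfsg.Agent.H66.Cod Cfsg.Agent.H686.CharKit Cfsg.Agent.H846.PB

theorem nc_mcl {S : Type u} [Group S] (h : Spor.IsoMcL S) : NC S 294 := by
  obtain ⟨f⟩ := h
  let e1 := f.trans Cfsg.Agent.H713.Spor.McL.mclEquiv
  let e2 := e1.trans (MulEquiv.subgroupCongr McL.hKe)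
  have hc2 := Cfsg.Agent.H852.IMMcL.facts'.2
  refine NC.congr e2.symm ?_
  obtain ⟨ξ, hξ⟩ := McL.exists_1750
  exact NC.of_deg (ndeg_of ξ hξ (by norm_num)) (by rw [hc2]; norm_num)

end Cfsg.Agent.H101.Cod
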